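import Groth.Agent.HopfLib.SpPoints
import Groth.Agent.Et18.Descent
import Mathlib.AlgebraicGeometry.Group.Affine
import Mathlib.Algebra.Category.CommHopfAlgCat

/-! # Affine group schemes over a ring as spectra of Hopf algebras -/

set_option linter.style.haveILetI false
set_option autoImplicit false
set_option backward.isDefEq.respectTransparency.types false
universe u

open CategoryTheory CategoryTheory.Limits MonoidalCategory CartesianMonoidalCategory MonObj AlgebraicGeometry Opposite
open scoped TensorProduct
open CoactBr Groth.Agent.HopfLib.SpPoints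

noncomputable section

namespace Groth.Agent.TorusGal29

variable {R : Type u} [CommRing R]

/-- `braidedAlgSpec`, at the spelling `CommRingCat.of R` -/
local instance braidedAlgSpecOf' : (algSpec (CommRingCat.of R)).Braided := braidedAlgSpec

theorem exists_hopf_aux (P : (CommAlgCat R)ᵒᵖ) [GrpObj ((algSpec (CommRingCat.of R)).obj P)] :
    ∃ (A : Type u) (_ : CommRing A) (_ : HopfAlgebra R A) (i : sp R A ≅ (algSpec (CommRingCat.of R)).obj P),
      IsMonHom i.hom := by
  letI g2 : GrpObj P := (algSpec.fullyFaithful (R := CommRingCat.of R)).grpObj P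
  let j : sp R (P.unop : Type u) ≅ (algSpec (CommRingCat.of R)).obj P := Iso.refl _
  refine ⟨(P.unop : Type u), inferInstance, inferInstance, j, ?_⟩
  let F := algSpec (CommRingCat.of R)
  constructor
  · apply Over.OverMorphism.ext
    rw [Over.comp_left, one_spec_asOver_spec_left]
    have h := congrArg CommaMorphism.left
      ((algSpec.fullyFaithful (R := CommRingCat.of R)).map_preimage (Functor.OplaxMonoidal.η F ≫ η[F.obj P]))
    exact (Category.comp_id _).trans (h.trans (Category.id_comp _))
  · apply Over.OverMorphism.ext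
    rw [Over.comp_left, Over.comp_left, mul_spec_asOver_spec_left]
    have h := congrArg CommaMorphism.left
      ((algSpec.fullyFaithful (R := CommRingCat.of R)).map_preimage (Functor.OplaxMonoidal.δ F P P ≫ μ[F.obj P]))
    have hj2 : (j.hom ⊗ₘ j.hom).left = 𝟙 _ :=
      (congrArg CommaMorphism.left (MonoidalCategory.id_tensorHom_id (F.obj P) (F.obj P))).trans rfl
    have h' := h.trans (show _ = (pullbackSpecIso R (P.unop : Type u) (P.unop : Type u)).inv ≫ μ[F.obj P].left from rfl)
    refine ((Category.comp_id _).trans ((Iso.eq_inv_comp _).mp h')).trans ?_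
    exact (Category.id_comp _).symm.trans (congrArg (fun t => t ≫ μ[F.obj P].left) hj2.symm)

theorem exists_hopf (T : Over (Spec (CommRingCat.of R))) [GrpObj T] [IsAffine T.left] :
    ∃ (A : Type u) (_ : CommRing A) (_ : HopfAlgebra R A) (i : sp R A ≅ T), IsMonHom i.hom := by
  obtain ⟨A, _, _, ⟨e⟩⟩ := Misc15.AffinePoints.exists_sp T
  let P : (CommAlgCat R)ᵒᵖ := op (CommAlgCat.of R A)
  let e' : T ≅ (algSpec (CommRingCat.of R)).obj P := e.symm
  letI g1 : GrpObj ((algSpec (CommRingCat.of R)).obj P) := GrpObj.ofIso e'
  haveI h1 : IsMonHom e'.hom := isMonHom_ofIso e'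
  obtain ⟨B, _, _, i, hi⟩ := exists_hopf_aux P
  exact ⟨B, inferInstance, inferInstance, i ≪≫ e'.symm, inferInstanceAs (IsMonHom (i.hom ≫ e'.inv))⟩

theorem isAffine_of_bc {k L : Type u} [Field k] [Field L] [Algebra k L] (T : Over (Spec (CommRingCat.of k)))
    (h : IsAffine (Red.bc (str k L) T).left) : IsAffine T.left := by
  haveI := Groth.Agent.Et18.descends_isAffineHom.{u}
  haveI : IsAffineHom (pullback.snd T.hom (str k L)) :=
    haveI : IsAffine (pullback T.hom (str k L)) := h
    inferInstance
  have hQ : Groth.Agent.Et18.FPQC.{u} (str k L) := by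
    refine ⟨⟨?_, ?_⟩, inferInstance⟩
    · exact ⟨Function.Surjective.comp (fun x => ⟨(default : PrimeSpectrum L), Subsingleton.elim (α := PrimeSpectrum k) _ _⟩) Function.surjective_id⟩
    · exact Flat.SpecMap_iff.mpr (by rw [CommRingCat.hom_ofHom, RingHom.flat_algebraMap_iff]; infer_instance)
  haveI : IsAffineHom T.hom := MorphismProperty.of_pullback_snd_of_descendsAlong (P := @IsAffineHom) hQ inferInstance
  exact isAffine_of_isAffineHom T.hom

end Groth.Agent.TorusGal29
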