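import Groth.Agent.IsoTriv.GroupLikeBC
import Mathlib.FieldTheory.Galois.Basic
import Mathlib.RingTheory.Bialgebra.MonoidAlgebra

/-! # Galois action on the character group of a split form -/

set_option linter.style.haveILetI false
set_option autoImplicit false
universe u

open TensorProduct Coalgebra Groth.Agent.IsoTriv

noncomputable section

namespace Groth.Agent.TorusGal29

variable {K L : Type u} [Field K] [Field L] [Algebra K L] {A : Type u} [CommRing A] [Bialgebra K A]
  {N : Type u} [CommGroup N] (e : L ⊗[K] A ≃ₐc[L] MonoidAlgebra L N)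

def gl (m : N) : L ⊗[K] A := e.symm (MonoidAlgebra.single m 1)

theorem apply_gl (m : N) : e (gl e m) = MonoidAlgebra.single m 1 := e.apply_symm_apply _

theorem isGroupLike_gl (m : N) : IsGroupLikeElem L (gl e m) :=
  (MonoidAlgebra.isGroupLikeElem_single_one (R := L) (A := L) m).map
    (e.symm : MonoidAlgebra L N →ₐc[L] L ⊗[K] A)

theorem gl_mul (m m' : N) : gl e (m * m') = gl e m * gl e m' := by
  apply EquivLike.injective e
  rw [map_mul, apply_gl, apply_gl, apply_gl, MonoidAlgebra.single_mul_single, mul_one]

theorem gl_one : gl e 1 = 1 := by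
  apply EquivLike.injective e
  rw [apply_gl, map_one]
  rfl

theorem gl_injective : Function.Injective (gl e) := fun m m' h => by
  have := congrArg e h
  rw [apply_gl, apply_gl] at this
  exact (MonoidAlgebra.single_left_inj one_ne_zero).mp this

theorem exists_act (σ : L ≃ₐ[K] L) (m : N) : ∃ m', gl e m' = push A σ.toAlgHom (gl e m) := by
  have h := isGroupLike_push σ.toAlgHom (isGroupLike_gl e m)
  obtain ⟨m', hm'⟩ := exists_eq_single (fun t ht => (IsIdempotentElem.iff_eq_zero_or_one.mp ht))
    (h.map (e : L ⊗[K] A →ₐc[L] MonoidAlgebra L N))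
  exact ⟨m', EquivLike.injective e (by rw [apply_gl]; exact hm'.symm)⟩

def act (σ : L ≃ₐ[K] L) (m : N) : N := (exists_act e σ m).choose

theorem gl_act (σ : L ≃ₐ[K] L) (m : N) : gl e (act e σ m) = push A σ.toAlgHom (gl e m) :=
  (exists_act e σ m).choose_spec

theorem act_one (m : N) : act e 1 m = m := gl_injective e <| by
  rw [gl_act]
  show Algebra.TensorProduct.map (AlgHom.id K L) (AlgHom.id K A) _ = _
  rw [Algebra.TensorProduct.map_id]
  rfl

theorem act_comp (σ τ : L ≃ₐ[K] L) (m : N) : act e (σ * τ) m = act e σ (act e τ m) := gl_injective e <| by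
  rw [gl_act, gl_act, gl_act, push_push]
  rfl

theorem act_mul (σ : L ≃ₐ[K] L) (m m' : N) : act e σ (m * m') = act e σ m * act e σ m' := gl_injective e <| by
  rw [gl_mul, gl_act, gl_act, gl_act, gl_mul, map_mul]

def actHom : (L ≃ₐ[K] L) →* Monoid.End N where
  toFun σ := MonoidHom.mk' (act e σ) (act_mul e σ)
  map_one' := MonoidHom.ext (act_one e)
  map_mul' σ τ := MonoidHom.ext (act_comp e σ τ)

/-- the extension of a rational point to `L` -/
def extPt (x : A →ₐ[K] K) : L ⊗[K] A →ₐ[L] L :=
  Algebra.TensorProduct.lift (Algebra.ofId L L) ((Algebra.ofId K L).comp x) fun _ _ => .all _ _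

theorem extPt_tmul (x : A →ₐ[K] K) (l : L) (a : A) : extPt x (l ⊗ₜ[K] a) = l * algebraMap K L (x a) := by
  simp [extPt]

def chi (x : A →ₐ[K] K) : N →* L where
  toFun m := extPt x (gl e m)
  map_one' := by rw [gl_one, map_one]
  map_mul' m m' := by rw [gl_mul, map_mul]

theorem chi_apply (x : A →ₐ[K] K) (m : N) : chi e x m = extPt x (gl e m) := rfl

theorem chi_act (x : A →ₐ[K] K) (σ : L ≃ₐ[K] L) (m : N) : chi e x (act e σ m) = σ (chi e x m) := by
  rw [chi_apply, chi_apply, gl_act]
  induction gl e m using TensorProduct.induction_on with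
  | zero => simp
  | tmul l a => simp [push_tmul, extPt_tmul]
  | add p q hp hq => simp only [map_add, hp, hq]

theorem chi_injective : Function.Injective (chi e : (A →ₐ[K] K) → N →* L) := fun x y h => by
  have h1 : (extPt x).comp (e.symm : MonoidAlgebra L N →ₐ[L] L ⊗[K] A) =
      (extPt y).comp (e.symm : MonoidAlgebra L N →ₐ[L] L ⊗[K] A) :=
    MonoidAlgebra.algHom_ext (fun m => DFunLike.congr_fun h m) (Subsingleton.elim _ _)
  refine AlgHom.ext fun a => (algebraMap K L).injective ?_
  have h2 := DFunLike.congr_fun h1 (e ((1 : L) ⊗ₜ[K] a))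
  simpa [extPt_tmul] using h2

theorem chi_counit : chi e (Bialgebra.counitAlgHom K A) = 1 := MonoidHom.ext fun m => by
  have hc : ∀ z : L ⊗[K] A, extPt (Bialgebra.counitAlgHom K A) z = counit (R := L) z := by
    intro z
    induction z using TensorProduct.induction_on with
    | zero => simp
    | tmul l a =>
      rw [extPt_tmul, TensorProduct.counit_tmul, Algebra.smul_def, CommSemiring.counit_apply, mul_comm]
      rfl
    | add p q hp hq => simp only [map_add, hp, hq]
  rw [chi_apply, hc, (isGroupLike_gl e m).counit_eq_one]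
  rfl

theorem chi_mul (x y : A →ₐ[K] K) :
    chi e ((Algebra.TensorProduct.lift x y fun _ _ => .all _ _).comp (Bialgebra.comulAlgHom K A)) =
      chi e x * chi e y := MonoidHom.ext fun m => by
  let Φ : (L ⊗[K] A) ⊗[L] (L ⊗[K] A) →ₐ[L] L :=
    Algebra.TensorProduct.lift (extPt x) (extPt y) fun _ _ => .all _ _
  have hc : ∀ z : L ⊗[K] A,
      extPt ((Algebra.TensorProduct.lift x y fun _ _ => .all _ _).comp (Bialgebra.comulAlgHom K A)) z =
        Φ (comul (R := L) z) := by
    intro z
    induction z using TensorProduct.induction_on with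
    | zero => simp
    | tmul l a =>
      rw [extPt_tmul, AlgHom.comp_apply, Bialgebra.comulAlgHom_apply, TensorProduct.comul_tmul, CommSemiring.comul_apply]
      induction comul (R := K) a using TensorProduct.induction_on with
      | zero => simp
      | tmul a b => simp [Φ, extPt_tmul, mul_assoc, mul_left_comm]
      | add p q hp hq => simp only [tmul_add, map_add, mul_add, hp, hq]
    | add p q hp hq => simp only [map_add, hp, hq]
  rw [chi_apply, hc, (isGroupLike_gl e m).comul_eq_tmul_self, MonoidHom.mul_apply, chi_apply, chi_apply,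
    Algebra.TensorProduct.lift_tmul]

end Groth.Agent.TorusGal29
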