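import Groth.Agent.TorusGal29.Action
import Mathlib.RingTheory.Bialgebra.TensorProduct

/-! # Descent of a Galois invariant cocharacter -/

set_option linter.style.haveILetI false
set_option autoImplicit false
universe u

open TensorProduct Coalgebra Groth.Agent.IsoTriv

noncomputable section

namespace Groth.Agent.TorusGal29

variable {K L : Type u} [Field K] [Field L] [Algebra K L] {A : Type u} [CommRing A] [Bialgebra K A]
  {N : Type u} [CommGroup N] (e : L ⊗[K] A ≃ₐc[L] MonoidAlgebra L N) {Z : Type} [CommGroup Z]

theorem mapK_injective : Function.Injective (MonoidAlgebra.mapRingHom Z (algebraMap K L)) := fun x y h => by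
  ext z
  have := congrArg (fun w : MonoidAlgebra L Z => w.coeff z) h
  simpa using this

theorem equivariant (φ : N →* Z) (hφ : ∀ (σ : L ≃ₐ[K] L) m, φ (act e σ m) = φ m) (σ : L ≃ₐ[K] L) (z : L ⊗[K] A) :
    MonoidAlgebra.mapDomainBialgHom L φ (e (push A σ.toAlgHom z)) =
      MonoidAlgebra.mapRingHom Z (σ : L →+* L) (MonoidAlgebra.mapDomainBialgHom L φ (e z)) := by
  obtain ⟨w, rfl⟩ : ∃ w, e.symm w = z := ⟨e z, e.symm_apply_apply z⟩
  induction w using MonoidAlgebra.induction_linear with
  | zero => simp
  | add p q hp hq => simp only [map_add, hp, hq]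
  | single m c =>
    have h1 : e.symm (MonoidAlgebra.single m c) = (c ⊗ₜ[K] (1 : A)) * gl e m := by
      apply EquivLike.injective e
      have h2 : e (c ⊗ₜ[K] (1 : A)) = algebraMap L (MonoidAlgebra L N) c := by
        rw [show c ⊗ₜ[K] (1 : A) = algebraMap L (L ⊗[K] A) c from rfl]
        exact (e : L ⊗[K] A →ₐ[L] MonoidAlgebra L N).commutes c
      show e (e.symm _) = e (_ * _)
      rw [e.apply_symm_apply, map_mul, h2, apply_gl]
      simp
    have h2 : e (σ c ⊗ₜ[K] (1 : A)) = algebraMap L (MonoidAlgebra L N) (σ c) := by
      rw [show σ c ⊗ₜ[K] (1 : A) = algebraMap L (L ⊗[K] A) (σ c) from rfl]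
      exact (e : L ⊗[K] A →ₐ[L] MonoidAlgebra L N).commutes _
    rw [e.apply_symm_apply, h1, map_mul, ← gl_act, push_tmul, map_mul, apply_gl]
    show MonoidAlgebra.mapDomainBialgHom L φ (e (σ c ⊗ₜ[K] (1 : A)) * _) = _
    rw [h2]
    simp [MonoidAlgebra.mapDomainBialgHom_single, hφ]

def qL (φ : N →* Z) : A →ₐ[K] MonoidAlgebra L Z where
  toFun a := MonoidAlgebra.mapDomainBialgHom L φ (e ((1 : L) ⊗ₜ[K] a))
  map_one' := by rw [← Algebra.TensorProduct.one_def, map_one, map_one]
  map_mul' a b := by rw [← map_mul, ← map_mul, Algebra.TensorProduct.tmul_mul_tmul, one_mul]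
  map_zero' := by rw [tmul_zero, map_zero, map_zero]
  map_add' a b := by rw [tmul_add, map_add, map_add]
  commutes' r := by
    have h : (1 : L) ⊗ₜ[K] algebraMap K A r = algebraMap L (L ⊗[K] A) (algebraMap K L r) := by
      show _ = algebraMap K L r ⊗ₜ[K] (1 : A)
      rw [Algebra.algebraMap_eq_smul_one, Algebra.algebraMap_eq_smul_one, tmul_smul, smul_tmul']
    rw [h]
    rw [AlgHomClass.commutes, AlgHomClass.commutes, ← IsScalarTower.algebraMap_apply]

theorem qL_apply (φ : N →* Z) (a : A) :
    qL e φ a = MonoidAlgebra.mapDomainBialgHom L φ (e ((1 : L) ⊗ₜ[K] a)) := rfl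

variable [FiniteDimensional K L] [IsGalois K L]

theorem exists_preimage (φ : N →* Z) (hφ : ∀ (σ : L ≃ₐ[K] L) m, φ (act e σ m) = φ m) (a : A) :
    ∃ w : MonoidAlgebra K Z, MonoidAlgebra.mapRingHom Z (algebraMap K L) w = qL e φ a := by
  have hz : ∀ z, ∃ c, algebraMap K L c = (qL e φ a).coeff z := fun z => by
    refine (IsGalois.mem_range_algebraMap_iff_fixed (F := K) _).mpr fun σ => ?_
    have h := congrArg (fun w : MonoidAlgebra L Z => w.coeff z) (equivariant e φ hφ σ ((1 : L) ⊗ₜ[K] a))
    simp only [push_tmul, map_one] at h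
    simpa [qL_apply] using h.symm
  choose c hc using hz
  classical
  refine ⟨∑ z ∈ (qL e φ a).coeff.support, MonoidAlgebra.single z (c z), ?_⟩
  rw [map_sum]
  simp only [MonoidAlgebra.mapRingHom_single, hc]
  exact MonoidAlgebra.sum_single _

theorem exists_descend (φ : N →* Z) (hφ : ∀ (σ : L ≃ₐ[K] L) m, φ (act e σ m) = φ m) (hsurj : Function.Surjective φ) :
    ∃ q : A →ₐ[K] MonoidAlgebra K Z, Function.Surjective q ∧
      (Bialgebra.counitAlgHom K (MonoidAlgebra K Z)).comp q = Bialgebra.counitAlgHom K A ∧
      (Bialgebra.comulAlgHom K (MonoidAlgebra K Z)).comp q =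
        (Algebra.TensorProduct.map q q).comp (Bialgebra.comulAlgHom K A) := by
  choose q hq using exists_preimage e φ hφ
  let Q : A →ₐ[K] MonoidAlgebra K Z :=
    { toFun := q
      map_one' := mapK_injective (L := L) (by rw [hq, map_one, map_one])
      map_mul' := fun a b => mapK_injective (L := L) (by rw [hq, map_mul, map_mul, hq, hq])
      map_zero' := mapK_injective (L := L) (by rw [hq, map_zero, map_zero])
      map_add' := fun a b => mapK_injective (L := L) (by rw [hq, map_add, map_add, hq, hq])
      commutes' := fun r => mapK_injective (L := L) (by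
        rw [hq, AlgHom.commutes, MonoidAlgebra.coe_algebraMap, MonoidAlgebra.coe_algebraMap]
        simp only [Function.comp_apply, MonoidAlgebra.mapRingHom_single]
        rfl) }
  let ψ := MonoidAlgebra.mapDomainBialgHom L φ
  have hQ : ∀ a, MonoidAlgebra.mapRingHom Z (algebraMap K L) (Q a) = ψ (e ((1 : L) ⊗ₜ[K] a)) := hq
  refine ⟨Q, ?_, ?_, ?_⟩
  · classical
    let V : Submodule K (MonoidAlgebra K Z) := LinearMap.range Q.toLinearMap
    suffices V = ⊤ from fun w => LinearMap.mem_range.mp (this ▸ Submodule.mem_top (x := w))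
    refine Submodule.eq_top_iff'.mpr fun w => ?_
    by_contra hw
    obtain ⟨f, hfw, hfV⟩ := Submodule.exists_le_ker_of_notMem hw
    let fL : MonoidAlgebra L Z →ₗ[L] L :=
      (MonoidAlgebra.basis Z L).constr L fun z => algebraMap K L (f (MonoidAlgebra.single z 1))
    have hfL : ∀ v, fL (MonoidAlgebra.mapRingHom Z (algebraMap K L) v) = algebraMap K L (f v) := fun v => by
      induction v using MonoidAlgebra.induction_linear with
      | zero => simp
      | add p r hp hr => simp only [map_add, hp, hr]
      | single z c =>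
        have e1 : MonoidAlgebra.single z (algebraMap K L c) = algebraMap K L c • MonoidAlgebra.basis Z L z := by
          simp [Algebra.algebraMap_eq_smul_one]
        have e2 : MonoidAlgebra.single z c = c • MonoidAlgebra.single z (1 : K) := by simp
        rw [MonoidAlgebra.mapRingHom_single, e1, map_smul, Module.Basis.constr_basis, smul_eq_mul, e2, map_smul,
          smul_eq_mul, map_mul]
    have hall : ∀ v, fL v = 0 := by
      intro v
      obtain ⟨u, rfl⟩ : ∃ u, ψ u = v := by
        induction v using MonoidAlgebra.induction_linear with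
        | zero => exact ⟨0, map_zero _⟩
        | add p r hp hr => obtain ⟨a, rfl⟩ := hp; obtain ⟨b, rfl⟩ := hr; exact ⟨a + b, map_add _ _ _⟩
        | single z c => obtain ⟨m, rfl⟩ := hsurj z; exact ⟨MonoidAlgebra.single m c, by simp [ψ]⟩
      obtain ⟨t, rfl⟩ : ∃ t, e t = u := ⟨e.symm u, e.apply_symm_apply u⟩
      induction t using TensorProduct.induction_on with
      | zero => simp
      | tmul l a =>
        rw [show l ⊗ₜ[K] a = l • ((1 : L) ⊗ₜ[K] a) by rw [smul_tmul', smul_eq_mul, mul_one], map_smul, map_smul,
          map_smul, ← hQ, hfL, show f (Q a) = 0 from hfV ⟨a, rfl⟩, map_zero, smul_zero]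
      | add p r hp hr => rw [map_add, map_add, map_add, hp, hr, add_zero]
    refine hfw ((algebraMap K L).injective ?_)
    rw [map_zero, ← hfL, hall]
  · refine AlgHom.ext fun a => (algebraMap K L).injective ?_
    have h1 : ∀ v : MonoidAlgebra K Z, algebraMap K L (counit (R := K) v) =
        counit (R := L) (MonoidAlgebra.mapRingHom Z (algebraMap K L) v) := fun v => by
      induction v using MonoidAlgebra.induction_linear with
      | zero => simp
      | add p r hp hr => simp only [map_add, hp, hr]
      | single z c => simp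
    rw [AlgHom.comp_apply, Bialgebra.counitAlgHom_apply, h1, hQ, CoalgHomClass.counit_comp_apply,
      CoalgHomClass.counit_comp_apply, TensorProduct.counit_tmul, CommSemiring.counit_apply, Bialgebra.counitAlgHom_apply,
      Algebra.smul_def, mul_one]
  · let m := MonoidAlgebra.mapRingHom Z (algebraMap K L)
    let mK : MonoidAlgebra K Z →ₗ[K] MonoidAlgebra L Z :=
      { toFun := m, map_add' := map_add m, map_smul' := fun c v => by
          induction v using MonoidAlgebra.induction_linear with
          | zero => simp
          | add p r hp hr => simp only [smul_add, map_add, hp, hr]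
          | single z d =>
            simp only [m, RingHom.id_apply, MonoidAlgebra.smul_single, MonoidAlgebra.mapRingHom_single]
            simp [Algebra.smul_def] }
    let Φ : MonoidAlgebra K Z ⊗[K] MonoidAlgebra K Z →ₗ[K] MonoidAlgebra L Z ⊗[L] MonoidAlgebra L Z :=
      TensorProduct.lift (((TensorProduct.mk L (MonoidAlgebra L Z) (MonoidAlgebra L Z)).restrictScalars₁₂ K K).compl₁₂ mK mK)
    have hΦ : ∀ v v', Φ (v ⊗ₜ[K] v') = m v ⊗ₜ[L] m v' := fun v v' => rfl
    have hinj : Function.Injective Φ := by
      let b := (MonoidAlgebra.basis Z K).tensorProduct (MonoidAlgebra.basis Z K)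
      let b' := (MonoidAlgebra.basis Z L).tensorProduct (MonoidAlgebra.basis Z L)
      have key : ∀ (t) (i : Z × Z), b'.repr (Φ t) i = algebraMap K L (b.repr t i) := by
        intro t i
        induction t using TensorProduct.induction_on with
        | zero => simp
        | tmul v v' =>
          obtain ⟨i, j⟩ := i
          rw [hΦ, Module.Basis.tensorProduct_repr_tmul_apply, Module.Basis.tensorProduct_repr_tmul_apply]
          simp [m, MonoidAlgebra.basis, mul_comm]
        | add p r hp hr => simp [map_add, hp, hr]
      intro t t' h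
      refine b.repr.injective (Finsupp.ext fun i => (algebraMap K L).injective ?_)
      rw [← key, ← key, h]
    refine AlgHom.ext fun a => hinj ?_
    have h1 : ∀ v : MonoidAlgebra K Z, Φ (comul (R := K) v) = comul (R := L) (m v) := fun v => by
      induction v using MonoidAlgebra.induction_linear with
      | zero => simp
      | add p r hp hr => simp only [map_add, hp, hr]
      | single z c =>
        simp only [MonoidAlgebra.comul_single, CommSemiring.comul_apply, TensorProduct.map_tmul]
        rw [hΦ]
        simp [m, MonoidAlgebra.lsingle]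
    rw [AlgHom.comp_apply, AlgHom.comp_apply, Bialgebra.comulAlgHom_apply, Bialgebra.comulAlgHom_apply, h1]
    show comul (R := L) (m (Q a)) = _
    rw [hQ, ← CoalgHomClass.map_comp_comul_apply, ← CoalgHomClass.map_comp_comul_apply, TensorProduct.comul_tmul,
      CommSemiring.comul_apply]
    induction comul (R := K) a using TensorProduct.induction_on with
    | zero => simp
    | tmul x y =>
      rw [Algebra.TensorProduct.map_tmul, hΦ, show m (Q x) = _ from hQ x, show m (Q y) = _ from hQ y]
      simp [ψ]
    | add p r hp hr => simp only [tmul_add, map_add, hp, hr]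

end Groth.Agent.TorusGal29
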