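import Groth.Agent.TorusGal29.Bridge
import Groth.Agent.IsoTriv.FieldSplit
import Mathlib.FieldTheory.Galois.Basic
import Mathlib.FieldTheory.Normal.Closure
import Mathlib.FieldTheory.IsAlgClosed.AlgebraicClosure
import Mathlib.FieldTheory.IsSepClosed
import Mathlib.RingTheory.Finiteness.Descent

/-! # Tori over a field are split by a finite Galois extension -/

set_option linter.style.haveILetI false
set_option autoImplicit false
set_option backward.isDefEq.respectTransparency.types false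
universe u

open CategoryTheory CategoryTheory.Limits MonoidalCategory CartesianMonoidalCategory MonObj AlgebraicGeometry
open scoped TensorProduct
open CoactBr Groth.Agent.HopfLib.SpPoints Groth.Agent.IsoTriv

noncomputable section

namespace Groth.Agent.TorusGal29

theorem bialgEquiv_of_iso {R : Type u} [CommRing R] {A B : Type u} [CommRing A] [CommRing B] [Bialgebra R A] [Bialgebra R B]
    (φ : sp R B ≅ sp R A) [IsMonHom φ.hom] : Nonempty (A ≃ₐc[R] B) := by
  let α : A →ₐ[R] B := algOf φ.hom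
  let β : B →ₐ[R] A := algOf φ.inv
  have h1 : α.comp β = AlgHom.id R B := by
    rw [show α.comp β = algOf (pt α ≫ φ.inv) from (algOf_pt_comp α φ.inv).symm, pt_algOf, Iso.hom_inv_id, ← pt_id, algOf_pt]
  have h2 : β.comp α = AlgHom.id R A := by
    rw [show β.comp α = algOf (pt β ≫ φ.hom) from (algOf_pt_comp β φ.hom).symm, pt_algOf, Iso.inv_hom_id, ← pt_id, algOf_pt]
  refine ⟨BialgEquiv.ofAlgEquiv (AlgEquiv.ofAlgHom α β h1 h2) ?_ ?_⟩
  · show (Bialgebra.counitAlgHom R B).comp α = Bialgebra.counitAlgHom R A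
    have h := congrArg algOf (MonObj.one_comp (f := φ.hom) : (1 : sp R R ⟶ sp R B) ≫ φ.hom = 1)
    rwa [one_eq_pt, one_eq_pt, algOf_pt_comp, algOf_pt] at h
  · show (Algebra.TensorProduct.map α α).comp (Bialgebra.comulAlgHom R A) = (Bialgebra.comulAlgHom R B).comp α
    have h := congrArg algOf (MonObj.mul_comp (pt (Algebra.TensorProduct.includeLeft : B →ₐ[R] B ⊗[R] B))
      (pt (Algebra.TensorProduct.includeRight : B →ₐ[R] B ⊗[R] B)) φ.hom)
    rw [pt_includeLeft_mul_includeRight, algOf_pt_comp, algOf_mul, algOf_pt_comp, algOf_pt_comp] at h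
    rw [h]
    congr 1
    exact Algebra.TensorProduct.ext' fun x y => by simp [α]

theorem exists_mulEquiv {Ω : Type u} [Field Ω] {M N : Type u} [CommGroup M] [CommGroup N]
    (e : MonoidAlgebra Ω M ≃ₐc[Ω] MonoidAlgebra Ω N) : Nonempty (M ≃* N) := by
  let f := MonoidAlgebra.mapDomainOfBialgHom (e : MonoidAlgebra Ω M →ₐc[Ω] MonoidAlgebra Ω N)
  let g := MonoidAlgebra.mapDomainOfBialgHom (e.symm : MonoidAlgebra Ω N →ₐc[Ω] MonoidAlgebra Ω M)
  refine ⟨MonoidHom.toMulEquiv f g ?_ ?_⟩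
  · rw [← MonoidAlgebra.mapDomainOfBialgHom_comp]
    convert MonoidAlgebra.mapDomainOfBialgHom_id (R := Ω) (G := M)
    exact DFunLike.ext _ _ fun x => e.symm_apply_apply x
  · rw [← MonoidAlgebra.mapDomainOfBialgHom_comp]
    convert MonoidAlgebra.mapDomainOfBialgHom_id (R := Ω) (G := N)
    exact DFunLike.ext _ _ fun x => e.apply_symm_apply x

theorem exists_galois_split {K : Type u} [Field K] {n : ℕ} (T : Over (Spec (CommRingCat.of K))) [GrpObj T]
    (hT : ∃ (L : Type u) (_ : Field L) (_ : Algebra K L),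
      Red.IsSplitTorusWith (Fin n → ℤ) (Red.bc (Spec.map (CommRingCat.ofHom (algebraMap K L))) T)) :
    ∃ (A : Type u) (_ : CommRing A) (_ : HopfAlgebra K A) (i : sp K A ≅ T) (_ : IsMonHom i.hom)
      (L : Type u) (_ : Field L) (_ : Algebra K L) (_ : FiniteDimensional K L) (_ : IsGalois K L)
      (N : Type u) (_ : CommGroup N) (_ : N ≃* Multiplicative (Fin n → ℤ)),
      Nonempty (L ⊗[K] A ≃ₐc[L] MonoidAlgebra L N) := by
  obtain ⟨L₀, _, _, ⟨E⟩⟩ := hT
  obtain ⟨d, hd⟩ := exists_dsIso L₀ (Fin n → ℤ)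
  haveI := hd
  let φT : Red.bc (str K L₀) T ≅ Red.DS (Spec (CommRingCat.of L₀)) (Fin n → ℤ) := (Grp.forget _).mapIso E
  haveI : IsMonHom φT.hom := inferInstanceAs (IsMonHom E.hom.hom.hom)
  haveI : IsAffine ((Over.forget _).obj (sp L₀ (MonoidAlgebra L₀ (Multiplicative (Fin n → ℤ))))) :=
    inferInstanceAs (IsAffine (Spec (CommRingCat.of _)))
  haveI : IsAffine (Red.bc (str K L₀) T).left := IsAffine.of_isIso ((Over.forget _).mapIso (φT ≪≫ d.symm)).hom
  haveI : IsAffine T.left := isAffine_of_bc (L := L₀) T inferInstance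
  obtain ⟨A, _, _, i, hi⟩ := exists_hopf T
  haveI := hi
  haveI hbc : IsMonHom (bcIso K L₀ A).hom := bcIso_isMonHom K L₀ A
  let φ : sp L₀ (L₀ ⊗[K] A) ≅ sp L₀ (MonoidAlgebra L₀ (Multiplicative (Fin n → ℤ))) :=
    (bcIso K L₀ A).symm ≪≫ (Over.pullback (str K L₀)).mapIso i ≪≫ φT ≪≫ d.symm
  haveI : IsMonHom φ.hom :=
    inferInstanceAs (IsMonHom ((bcIso K L₀ A).inv ≫ (Over.pullback (str K L₀)).map i.hom ≫ φT.hom ≫ d.inv))
  haveI : IsMonHom φ.symm.hom := inferInstanceAs (IsMonHom φ.inv)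
  obtain ⟨e₁⟩ := bialgEquiv_of_iso φ.symm
  let M : Type u := ULift.{u} (Multiplicative (Fin n → ℤ))
  let εM : M ≃* Multiplicative (Fin n → ℤ) := MulEquiv.ulift
  let u : MonoidAlgebra L₀ (Multiplicative (Fin n → ℤ)) ≃ₐc[L₀] MonoidAlgebra L₀ M :=
    BialgEquiv.ofBijective (MonoidAlgebra.mapDomainBialgHom L₀ εM.symm.toMonoidHom)
      (Function.bijective_iff_has_inverse.mpr ⟨MonoidAlgebra.mapDomainBialgHom L₀ εM.toMonoidHom,
        fun x => by
          rw [MonoidAlgebra.mapDomainBialgHom_mapDomainBialgHom,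
            show εM.toMonoidHom.comp εM.symm.toMonoidHom = MonoidHom.id _ from MonoidHom.ext εM.apply_symm_apply,
            MonoidAlgebra.mapDomainBialgHom_id]
          rfl,
        fun x => by
          rw [MonoidAlgebra.mapDomainBialgHom_mapDomainBialgHom,
            show εM.symm.toMonoidHom.comp εM.toMonoidHom = MonoidHom.id _ from MonoidHom.ext εM.symm_apply_apply,
            MonoidAlgebra.mapDomainBialgHom_id]
          rfl⟩)
  let e₀ : L₀ ⊗[K] A ≃ₐc[L₀] MonoidAlgebra L₀ M := e₁.trans u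
  haveI : Group.FG M := Group.fg_of_surjective (f := εM.symm.toMonoidHom) εM.symm.surjective
  haveI : Algebra.FiniteType L₀ (MonoidAlgebra L₀ M) := MonoidAlgebra.finiteType_iff_group_fg.mpr inferInstance
  haveI : Algebra.FiniteType L₀ (L₀ ⊗[K] A) :=
    Algebra.FiniteType.equiv (inferInstance : Algebra.FiniteType L₀ (MonoidAlgebra L₀ M)) e₀.toAlgEquiv.symm
  have hft : Algebra.FiniteType K A := Algebra.FiniteType.of_finiteType_tensorProduct_of_faithfullyFlat (T := L₀)
  have hm : SGA3b.IsMultTypeConst K A := ⟨L₀, inferInstance, inferInstance, inferInstance, M, inferInstance, ⟨e₀⟩⟩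
  obtain ⟨k', _, _, hfin, hsep, N, _, -, ⟨e'⟩⟩ := exists_splitting hft hm
  haveI := hfin
  haveI := hsep
  let f : k' →ₐ[K] SeparableClosure K := IsSepClosed.lift
  letI : Algebra k' (SeparableClosure K) := f.toRingHom.toAlgebra
  haveI : IsScalarTower K k' (SeparableClosure K) := IsScalarTower.of_algebraMap_eq fun r => (f.commutes r).symm
  let L := IntermediateField.normalClosure K k' (SeparableClosure K)
  haveI : IsGalois K L := IsGalois.normalClosure K k' (SeparableClosure K)
  let f' : k' →ₐ[K] L := f.codRestrict L.toSubalgebra fun x => AlgHom.fieldRange_le_normalClosure f ⟨x, rfl⟩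
  letI : Algebra k' L := f'.toRingHom.toAlgebra
  haveI : IsScalarTower K k' L := IsScalarTower.of_algebraMap_eq fun r => (f'.commutes r).symm
  let e : (L : Type u) ⊗[K] A ≃ₐc[L] MonoidAlgebra L N := bcTriv e'
  let Ω := AlgebraicClosure L₀
  let g : (L : Type u) →ₐ[K] Ω := IsAlgClosed.lift
  letI : Algebra L Ω := g.toRingHom.toAlgebra
  haveI : IsScalarTower K L Ω := IsScalarTower.of_algebraMap_eq fun r => (g.commutes r).symm
  let a : Ω ⊗[K] A ≃ₐc[Ω] MonoidAlgebra Ω N := bcTriv e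
  let b : Ω ⊗[K] A ≃ₐc[Ω] MonoidAlgebra Ω M := bcTriv e₀
  obtain ⟨ε⟩ := exists_mulEquiv (a.symm.trans b)
  exact ⟨A, inferInstance, inferInstance, i, hi, L, inferInstance, inferInstance, inferInstance, inferInstance,
    N, inferInstance, ε.trans εM, ⟨e⟩⟩

end Groth.Agent.TorusGal29
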