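import Groth.Agent.TorusGal29.Comb
import Groth.Agent.TorusGal29.Descend
import Groth.Agent.TorusGal29.Split
import Mathlib.LinearAlgebra.Matrix.ToLin
import Mathlib.AlgebraicGeometry.Morphisms.ClosedImmersion
import Mathlib.GroupTheory.Archimedean

/-! # Points of finite order of anisotropic tori -/

set_option linter.style.haveILetI false
set_option autoImplicit false
set_option backward.isDefEq.respectTransparency.types false
universe u

open CategoryTheory CategoryTheory.Limits MonoidalCategory CartesianMonoidalCategory MonObj AlgebraicGeometry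
open scoped TensorProduct Matrix
open CoactBr Groth.Agent.HopfLib.SpPoints Polynomial

noncomputable section

namespace Groth.Agent.TorusGal29

theorem exists_primitive_dual {n : ℕ} {G : Type*} [Group G] [Fintype G] (ρ : G →* GL (Fin n) ℤ) {v₀ : Fin n → ℤ}
    (h0 : v₀ ≠ 0) (hv : ∀ g, (ρ g : Matrix (Fin n) (Fin n) ℤ) *ᵥ v₀ = v₀) :
    ∃ φ : (Fin n → ℤ) →+ ℤ, Function.Surjective φ ∧ ∀ g w, φ ((ρ g : Matrix (Fin n) (Fin n) ℤ) *ᵥ w) = φ w := by
  obtain ⟨j, hj⟩ := Function.ne_iff.mp h0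
  let φ₀ : (Fin n → ℤ) →+ ℤ :=
    AddMonoidHom.mk' (fun w => ∑ g, ((ρ g : Matrix (Fin n) (Fin n) ℤ) *ᵥ w) j) fun a b => by
      simp [Matrix.mulVec_add, Finset.sum_add_distrib]
  have hne : φ₀ v₀ ≠ 0 := by
    show (∑ g, ((ρ g : Matrix (Fin n) (Fin n) ℤ) *ᵥ v₀) j) ≠ 0
    simp only [hv, Finset.sum_const, Finset.card_univ, nsmul_eq_mul]
    exact mul_ne_zero (by exact_mod_cast Fintype.card_ne_zero) hj
  have hinv : ∀ g w, φ₀ ((ρ g : Matrix (Fin n) (Fin n) ℤ) *ᵥ w) = φ₀ w := fun g w => by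
    show (∑ h, ((ρ h : Matrix (Fin n) (Fin n) ℤ) *ᵥ _) j) = ∑ h, ((ρ h : Matrix (Fin n) (Fin n) ℤ) *ᵥ w) j
    refine Fintype.sum_equiv (Equiv.mulRight g) _ _ fun h => ?_
    simp [Matrix.mulVec_mulVec]
  obtain ⟨d, hd⟩ := Int.subgroup_cyclic φ₀.range
  rw [← AddSubgroup.zmultiples_eq_closure] at hd
  have hdv : ∀ w, d ∣ φ₀ w := fun w => Int.mem_zmultiples_iff.mp (hd ▸ AddMonoidHom.mem_range.mpr ⟨w, rfl⟩)
  have hd0 : d ≠ 0 := fun e => hne (by simpa [e] using hdv v₀)
  refine ⟨AddMonoidHom.mk' (fun w => φ₀ w / d) fun a b => ?_, fun z => ?_, fun g w => ?_⟩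
  · rw [map_add, Int.add_ediv_of_dvd_left (hdv a)]
  · obtain ⟨w, hw⟩ : z * d ∈ φ₀.range := hd ▸ Int.mem_zmultiples_iff.mpr ⟨z, mul_comm _ _⟩
    exact ⟨w, by simp [hw, Int.mul_ediv_cancel _ hd0]⟩
  · exact congrArg (· / d) (hinv g w)

theorem exists_data (K : Type u) [Field K] {n : ℕ}
    (T : Over (Spec (CommRingCat.of K))) [GrpObj T]
    (hT : ∃ (L : Type u) (_ : Field L) (_ : Algebra K L),
      Red.IsSplitTorusWith (Fin n → ℤ) (Red.bc (Spec.map (CommRingCat.ofHom (algebraMap K L))) T))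
    (haniso : ∀ i : Red.Gm (Spec (CommRingCat.of K)) ⟶ T, IsMonHom i → Mono i → False) :
    ∃ (L : Type u) (_ : Field L) (_ : Algebra K L) (H : Subgroup (GL (Fin n) ℤ)) (_ : Finite H)
      (Ψ : (𝟙_ (Over (Spec (CommRingCat.of K))) ⟶ T) →* (Multiplicative (Fin n → ℤ) →* L)),
      Function.Injective Ψ ∧
      (∀ x, (∀ w, Ψ x w ∈ Set.range (algebraMap K L)) → ∀ h ∈ H, ∀ v : Fin n → ℤ,
        Ψ x (Multiplicative.ofAdd ((h : Matrix (Fin n) (Fin n) ℤ) *ᵥ v)) = Ψ x (Multiplicative.ofAdd v)) ∧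
      ∀ v : Fin n → ℤ, (∀ h ∈ H, (h : Matrix (Fin n) (Fin n) ℤ) *ᵥ v = v) → v = 0 := by
  obtain ⟨A, _, _, i, hi, L, _, _, _, _, N, _, ε, ⟨e⟩⟩ := exists_galois_split T hT
  haveI := hi
  haveI : IsMonHom i.inv := inferInstance
  let lin : (L ≃ₐ[K] L) →* Module.End ℤ (Fin n → ℤ) :=
    { toFun := fun σ => (AddMonoidHom.mk' (fun v => (ε (act e σ (ε.symm (Multiplicative.ofAdd v)))).toAdd)
        fun a b => by rw [ofAdd_add, map_mul, act_mul, map_mul, toAdd_mul]).toIntLinearMap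
      map_one' := LinearMap.ext fun v => by
        show (ε (act e 1 (ε.symm (Multiplicative.ofAdd v)))).toAdd = v
        rw [act_one, MulEquiv.apply_symm_apply, toAdd_ofAdd]
      map_mul' := fun σ τ => LinearMap.ext fun v => by
        show (ε (act e (σ * τ) _)).toAdd = (ε (act e σ (ε.symm (Multiplicative.ofAdd (ε (act e τ _)).toAdd)))).toAdd
        rw [act_comp, ofAdd_toAdd, MulEquiv.symm_apply_apply] }
  let ρ : (L ≃ₐ[K] L) →* GL (Fin n) ℤ :=
    ((LinearMap.toMatrixAlgEquiv' (R := ℤ) (n := Fin n)).toMonoidHom.comp lin).toHomUnits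
  have hρ : ∀ σ v, (ρ σ : Matrix (Fin n) (Fin n) ℤ) *ᵥ v = (ε (act e σ (ε.symm (Multiplicative.ofAdd v)))).toAdd := by
    intro σ v
    show LinearMap.toMatrix' (lin σ) *ᵥ v = _
    rw [LinearMap.toMatrix'_mulVec]
    rfl
  let Ψ : (𝟙_ (Over (Spec (CommRingCat.of K))) ⟶ T) →* (Multiplicative (Fin n → ℤ) →* L) :=
    { toFun := fun x => (chi e (algOf (unitIso.hom ≫ x ≫ i.inv))).comp ε.symm.toMonoidHom
      map_one' := by
        rw [MonObj.one_comp, MonObj.comp_one, one_eq_pt, algOf_pt,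
          show (Algebra.ofId K K).comp (Bialgebra.counitAlgHom K A) = Bialgebra.counitAlgHom K A from rfl, chi_counit]
        rfl
      map_mul' := fun x y => by
        rw [MonObj.mul_comp, MonObj.comp_mul, algOf_mul, chi_mul]
        rfl }
  have hΨ : Function.Injective Ψ := fun x y h => by
    have h1 : chi e (algOf (unitIso.hom ≫ x ≫ i.inv)) = chi e (algOf (unitIso.hom ≫ y ≫ i.inv)) :=
      MonoidHom.ext fun m => by simpa [Ψ] using DFunLike.congr_fun h (ε m)
    have h2 := congrArg pt (chi_injective e h1)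
    rw [pt_algOf, pt_algOf, cancel_epi, cancel_mono] at h2
    exact h2
  haveI : Finite ρ.range := Finite.of_surjective ρ.rangeRestrict ρ.rangeRestrict_surjective
  refine ⟨L, inferInstance, inferInstance, ρ.range, inferInstance, Ψ, hΨ, ?_, ?_⟩
  · rintro x hx _ ⟨σ, rfl⟩ v
    rw [hρ]
    show chi e _ (ε.symm (Multiplicative.ofAdd (ε (act e σ _)).toAdd)) = chi e _ (ε.symm (Multiplicative.ofAdd v))
    rw [ofAdd_toAdd, MulEquiv.symm_apply_apply, chi_act]
    obtain ⟨c, hc⟩ := hx (Multiplicative.ofAdd v)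
    rw [show chi e _ (ε.symm (Multiplicative.ofAdd v)) = algebraMap K L c from hc.symm, AlgEquiv.commutes]
  · intro v hv
    by_contra hv0
    obtain ⟨φ, hsurj, hφ⟩ := exists_primitive_dual ρ hv0 fun σ => hv _ ⟨σ, rfl⟩
    let φN : N →* Multiplicative ℤ := φ.toMultiplicative.comp ε.toMonoidHom
    have hφN : ∀ (σ : L ≃ₐ[K] L) m, φN (act e σ m) = φN m := fun σ m => by
      have h := hφ σ (ε m).toAdd
      rw [hρ, ofAdd_toAdd, MulEquiv.symm_apply_apply] at h
      exact congrArg Multiplicative.ofAdd h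
    obtain ⟨q, hq, hqu, hqm⟩ := exists_descend e φN hφN (fun z => by
      obtain ⟨w, hw⟩ := hsurj z.toAdd
      exact ⟨ε.symm (Multiplicative.ofAdd w), by simp [φN, hw]⟩)
    haveI hmh : IsMonHom (pt q) := isMonHom_pt q hqu hqm
    obtain ⟨d, hd⟩ := exists_dsIso K ℤ
    haveI := hd
    haveI : IsMonHom d.inv := inferInstance
    haveI : Mono (pt q) := by
      haveI : IsClosedImmersion (Spec.map (CommRingCat.ofHom q.toRingHom)) :=
        IsClosedImmersion.spec_of_surjective _ hq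
      haveI : IsPreimmersion (Spec.map (CommRingCat.ofHom q.toRingHom)) := inferInstance
      haveI : Mono (pt q).left := by rw [pt_left]; exact inferInstanceAs (Mono (Spec.map (CommRingCat.ofHom q.toRingHom)))
      exact (Over.forget _).mono_of_mono_map (inferInstanceAs (Mono (pt q).left))
    exact haniso (d.inv ≫ pt q ≫ i.hom) inferInstance inferInstance

theorem mem_range_of_isOfFinOrder {K : Type u} [Field K] (hK : ∀ n : ℕ, 0 < n → (X ^ n - 1 : K[X]).Splits)
    {L : Type u} [Field L] [Algebra K L] {P M : Type*} [Monoid P] [MulOneClass M] (Ψ : P →* (M →* L)) {x : P}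
    (hx : IsOfFinOrder x) (w : M) : Ψ x w ∈ Set.range (algebraMap K L) := by
  obtain ⟨N, hN, hx'⟩ := isOfFinOrder_iff_pow_eq_one.mp hx
  exact mem_range_of_pow_eq_one hK hN (by rw [← MonoidHom.pow_apply, ← map_pow, hx', map_one, MonoidHom.one_apply])

end Groth.Agent.TorusGal29
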