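import Mathlib.LinearAlgebra.Matrix.GeneralLinearGroup.Defs
import Mathlib.LinearAlgebra.Matrix.Charpoly.Coeff
import Mathlib.RingTheory.RootsOfUnity.Basic
import Mathlib.FieldTheory.Normal.Defs
import Mathlib.GroupTheory.OrderOfElement
import Mathlib.Algebra.CharP.Lemmas
import Mathlib.Algebra.CharP.Algebra
import Mathlib.LinearAlgebra.Matrix.Adjugate

/-! # Torsion homomorphisms on a lattice with an anisotropic finite group action -/

set_option autoImplicit false

open Matrix Polynomial

namespace Groth.Agent.TorusGal29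

variable {K L : Type*} [Field K] [Field L] [Algebra K L] {n : ℕ}

theorem mem_range_of_pow_eq_one (hK : ∀ n : ℕ, 0 < n → (X ^ n - 1 : K[X]).Splits) {N : ℕ} (hN : 0 < N) {y : L}
    (hy : y ^ N = 1) : y ∈ Set.range (algebraMap K L) :=
  (hK N hN).mem_range_of_isRoot (X_pow_sub_C_ne_zero hN (1 : K) |> fun h => by simpa using h) (by simp [hy])

section Bounds

variable {P : Type*} [Group P] (Ψ : P →* (Multiplicative (Fin n → ℤ) →* L)) (hinj : Function.Injective Ψ)

include hinj

theorem orderOf_cast_ne_zero {x : P} (hx : IsOfFinOrder x) : ((orderOf x : ℕ) : K) ≠ 0 := by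
  intro h0
  obtain ⟨p, hp⟩ := CharP.exists K
  have hpd : p ∣ orderOf x := (CharP.cast_eq_zero_iff K p _).mp h0
  obtain ⟨m, hm⟩ := hpd
  have hpos := hx.orderOf_pos
  have hp0 : p ≠ 0 := by rintro rfl; simp [hm] at hpos
  haveI : Fact p.Prime := ⟨(CharP.char_is_prime_or_zero K p).resolve_right hp0⟩
  haveI : CharP L p := charP_of_injective_algebraMap (algebraMap K L).injective p
  have hxm : x ^ m = 1 := by
    refine hinj (MonoidHom.ext fun v => ?_)
    rw [map_pow, MonoidHom.pow_apply, map_one, MonoidHom.one_apply]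
    have h1 : (Ψ x v ^ m) ^ p = 1 := by
      rw [← pow_mul, mul_comm, ← hm, ← MonoidHom.pow_apply, ← map_pow, pow_orderOf_eq_one, map_one, MonoidHom.one_apply]
    have h2 : (Ψ x v ^ m - 1) ^ p = 0 := by rw [sub_pow_char, h1, one_pow, sub_self]
    exact sub_eq_zero.mp (eq_zero_of_pow_eq_zero h2)
  have hm0 : 0 < m := Nat.pos_of_ne_zero fun e => by simp [hm, e] at hpos
  have hle := Nat.le_of_dvd hm0 (orderOf_dvd_of_pow_eq_one hxm)
  have h2 := (Fact.out : p.Prime).two_le
  rw [hm] at hle
  nlinarith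

theorem bound_of_exponent {d : ℕ} (hd : 0 < d) (hexp : ∀ x : P, IsOfFinOrder x → ∀ v, Ψ x v ^ d = 1) :
    (∀ x : P, IsOfFinOrder x → orderOf x ≤ d) ∧ ∀ G : Subgroup P, Finite G → Nat.card G ≤ d ^ n := by
  refine ⟨fun x hx => orderOf_le_of_pow_eq_one hd (hinj ?_), fun G hG => ?_⟩
  · refine MonoidHom.ext fun v => ?_
    rw [map_pow, MonoidHom.pow_apply, hexp x hx v, map_one, MonoidHom.one_apply]
  · classical
    haveI : NeZero d := ⟨hd.ne'⟩
    let b : Fin n → Fin n → ℤ := fun i => Pi.single i 1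
    let F : G → Fin n → rootsOfUnity d L := fun g i =>
      rootsOfUnity.mkOfPowEq (Ψ (g : P) (Multiplicative.ofAdd (b i)))
        (hexp _ (Subgroup.subtype_injective G |> fun h => MonoidHom.isOfFinOrder G.subtype (isOfFinOrder_of_finite g)) _)
    have hF : Function.Injective F := fun g g' h => by
      refine Subtype.ext (hinj (MonoidHom.ext fun v => ?_))
      obtain ⟨v, rfl⟩ := Multiplicative.ofAdd.surjective v
      have hb : ∀ i, Ψ (g : P) (Multiplicative.ofAdd (b i)) = Ψ (g' : P) (Multiplicative.ofAdd (b i)) := fun i => by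
        have := congrArg (fun u : Fin n → rootsOfUnity d L => ((u i : Lˣ) : L)) h
        simpa [F] using this
      let toU := fun q : P => ((Ψ q).toHomUnits)
      have hu : ∀ i, toU g (Multiplicative.ofAdd (b i)) = toU g' (Multiplicative.ofAdd (b i)) := fun i =>
        Units.ext (hb i)
      have key : toU g = toU g' := by
        apply MonoidHom.toAdditiveRight.injective
        refine AddMonoidHom.functions_ext _ _ _ fun i r => ?_
        have hr : (Pi.single i r : Fin n → ℤ) = r • b i := by simp [b, ← Pi.single_smul']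
        rw [hr, map_zsmul, map_zsmul]
        congr 1
        exact congrArg Additive.ofMul (hu i)
      exact congrArg (fun φ : Multiplicative (Fin n → ℤ) →* Lˣ => ((φ (Multiplicative.ofAdd v) : Lˣ) : L)) key
    calc Nat.card G ≤ Nat.card (Fin n → rootsOfUnity d L) := Nat.card_le_card_of_injective F hF
      _ = Nat.card (rootsOfUnity d L) ^ n := by rw [Nat.card_fun, Nat.card_fin]
      _ ≤ d ^ n := Nat.pow_le_pow_left (card_rootsOfUnity L d) n

end Bounds

section Fixed

variable (H : Subgroup (GL (Fin n) ℤ)) [Finite H] (f : Multiplicative (Fin n → ℤ) →* L)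
  (hf : ∀ h ∈ H, ∀ v : Fin n → ℤ, f (Multiplicative.ofAdd ((h : Matrix (Fin n) (Fin n) ℤ) *ᵥ v)) = f (Multiplicative.ofAdd v))

include hf

theorem pow_card_eq_one (hfix : ∀ v : Fin n → ℤ, (∀ h ∈ H, (h : Matrix (Fin n) (Fin n) ℤ) *ᵥ v = v) → v = 0)
    (v : Multiplicative (Fin n → ℤ)) : f v ^ Nat.card H = 1 := by
  classical
  haveI := Fintype.ofFinite H
  obtain ⟨v, rfl⟩ := Multiplicative.ofAdd.surjective v
  have hs : (∑ h : H, ((h : GL (Fin n) ℤ) : Matrix (Fin n) (Fin n) ℤ) *ᵥ v) = 0 := by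
    refine hfix _ fun g hg => ?_
    rw [Matrix.mulVec_sum]
    refine Fintype.sum_equiv (Equiv.mulLeft ⟨g, hg⟩) _ _ fun h => ?_
    simp [Matrix.mulVec_mulVec]
  have h2 : f (Multiplicative.ofAdd (∑ h : H, ((h : GL (Fin n) ℤ) : Matrix (Fin n) (Fin n) ℤ) *ᵥ v)) =
      ∏ h : H, f (Multiplicative.ofAdd (((h : GL (Fin n) ℤ) : Matrix (Fin n) (Fin n) ℤ) *ᵥ v)) := by
    rw [ofAdd_sum, map_prod]
  rw [hs, Finset.prod_congr rfl fun h _ => hf h.1 h.2 v, Finset.prod_const, Finset.card_univ, ofAdd_zero, map_one] at h2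
  rw [Nat.card_eq_fintype_card]
  exact h2.symm

theorem pow_det_eq_one {h : GL (Fin n) ℤ} (hh : h ∈ H) (v : Multiplicative (Fin n → ℤ)) :
    f v ^ ((h : Matrix (Fin n) (Fin n) ℤ) - 1).det.natAbs = 1 := by
  obtain ⟨v, rfl⟩ := Multiplicative.ofAdd.surjective v
  set B := (h : Matrix (Fin n) (Fin n) ℤ) - 1
  have h1 : B *ᵥ (B.adjugate *ᵥ v) = B.det • v := by
    rw [Matrix.mulVec_mulVec, Matrix.mul_adjugate, Matrix.smul_mulVec, Matrix.one_mulVec]
  set F := f.toHomUnits
  have h3 : F (Multiplicative.ofAdd (B *ᵥ (B.adjugate *ᵥ v))) = 1 := by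
    rw [show B = (h : Matrix (Fin n) (Fin n) ℤ) - 1 from rfl, Matrix.sub_mulVec, Matrix.one_mulVec, ofAdd_sub, _root_.map_div]
    refine div_eq_one.mpr (Units.ext ?_)
    exact hf h hh _
  rw [h1, ofAdd_zsmul, map_zpow] at h3
  have h4 : F (Multiplicative.ofAdd v) ^ B.det.natAbs = 1 := pow_natAbs_eq_one.mpr h3
  simpa [F] using congrArg Units.val h4

end Fixed

theorem det_sub_one_natAbs_le (M : Matrix (Fin 2) (Fin 2) ℤ) {k : ℕ} (hk : 0 < k) (hM : M ^ k = 1) :
    (M - 1).det.natAbs ≤ 4 := by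
  have aux : ∀ N : Matrix (Fin 2) (Fin 2) ℤ, N.det = 1 → N ^ k = 1 → |N.trace| ≤ 2 := by
    intro N hD hN
    by_contra ht
    have hsq : N * N = N.trace • N - 1 := by
      rw [Matrix.det_fin_two] at hD
      ext i j
      simp only [Matrix.sub_apply, Matrix.smul_apply, Matrix.mul_apply, Fin.sum_univ_two, Matrix.trace_fin_two, smul_eq_mul, Matrix.one_apply]
      fin_cases i <;> fin_cases j <;> simp <;> first | ring1 | linear_combination -hD | linear_combination hD
    have key : ∀ j : ℕ, ∃ a b a' b' : ℤ, N ^ j = a • N + b • 1 ∧ N ^ (j + 1) = a' • N + b' • 1 ∧ |a| < |a'| := by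
      intro j
      induction j with
      | zero => exact ⟨0, 1, 1, 0, by simp, by simp, by simp⟩
      | succ j ih =>
        obtain ⟨a, b, a', b', h0, h1, hlt⟩ := ih
        refine ⟨a', b', N.trace * a' - a, -b' * 0 + (N.trace * b' - b), h1, ?_, ?_⟩
        · have e : N ^ (j + 2) = N.trace • N ^ (j + 1) - N ^ j := by
            rw [pow_add, sq, hsq, mul_sub, mul_one, Matrix.mul_smul, ← pow_succ]
          rw [e, h0, h1, smul_add, smul_smul, smul_smul, sub_smul, mul_zero, zero_add, sub_smul]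
          abel
        · have h3 : (3 : ℤ) ≤ |N.trace| := by omega
          have h4 := abs_sub_abs_le_abs_sub (N.trace * a') a
          rw [abs_mul] at h4
          nlinarith [abs_nonneg a, abs_nonneg a']
    obtain ⟨j, rfl⟩ : ∃ j, k = j + 1 := ⟨k - 1, by omega⟩
    obtain ⟨a, b, a', b', -, h1, hlt⟩ := key j
    rw [hN] at h1
    have ha' : a' ≠ 0 := by rintro rfl; simp at hlt; linarith [abs_nonneg a]
    have e01 := congrFun (congrFun h1 0) 1
    have e10 := congrFun (congrFun h1 1) 0
    have e00 := congrFun (congrFun h1 0) 0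
    have e11 := congrFun (congrFun h1 1) 1
    simp only [Matrix.add_apply, Matrix.smul_apply, smul_eq_mul, Matrix.one_apply] at e01 e10 e00 e11
    simp at e01 e10 e00 e11
    have he : N 0 0 = N 1 1 := mul_left_cancel₀ ha' (by linarith)
    replace e01 := e01.resolve_left ha'
    rw [Matrix.det_fin_two, e01, zero_mul, sub_zero] at hD
    rw [Matrix.trace_fin_two, ← he] at ht
    rw [← he] at hD
    have : N 0 0 = 1 ∨ N 0 0 = -1 := mul_self_eq_one_iff.mp (by linarith [hD])
    rcases this with h | h <;> simp [h] at ht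
  have hdet : M.det = 1 ∨ M.det = -1 := by
    have : IsUnit M.det := by
      refine IsUnit.of_mul_eq_one (a := M.det) (M.det ^ (k - 1)) ?_
      rw [← pow_succ', Nat.sub_add_cancel hk, ← Matrix.det_pow, hM, Matrix.det_one]
    exact Int.isUnit_iff.mp this
  have e : (M - 1).det = M.det - M.trace + 1 := by
    simp [Matrix.det_fin_two, Matrix.trace_fin_two]; ring
  rcases hdet with hD | hD
  · have := abs_le.mp (aux M hD hM)
    rw [e, hD]; omega
  · have h2 : (M * M).trace = M.trace ^ 2 + 2 := by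
      rw [Matrix.det_fin_two] at hD
      simp [Matrix.trace_fin_two, Matrix.mul_apply, Fin.sum_univ_two]; linarith [hD]
    have := abs_le.mp (aux (M * M) (by rw [Matrix.det_mul, hD]; norm_num) (by rw [← sq, ← pow_mul, mul_comm, pow_mul, hM, one_pow]))
    rw [h2] at this
    have ht : M.trace = 0 := pow_eq_zero_iff (n := 2) (by norm_num) |>.mp (by nlinarith)
    rw [e, hD, ht]; omega

end Groth.Agent.TorusGal29
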